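import Groth.Agent.H12.BC.Hyp

/-!
# The exchange rows, from the core statement (helper12)
-/

set_option autoImplicit false
universe u
noncomputable section
namespace Groth.Agent.H12.BC
open CategoryTheory CategoryTheory.Limits AlgebraicGeometry Opposite
open Groth.Agent.H12.TCx

section Transfer

variable {A : Type u} [CommRing A]

/-- epimorphisms are transported along an isomorphism of functors. -/
theorem epi_map_iff_of_iso {C D : Type*} [Category C] [Category D] {G G' : C ⥤ D} (e : G ≅ G')
    {M N : C} (g : M ⟶ N) : Epi (G.map g) ↔ Epi (G'.map g) := by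
  have h : G.map g = e.hom.app M ≫ G'.map g ≫ e.inv.app N := by
    rw [← e.hom.naturality_assoc, Iso.hom_inv_id_app, Category.comp_id]
  have h' : G'.map g = e.inv.app M ≫ G.map g ≫ e.hom.app N := by
    rw [← e.inv.naturality_assoc, Iso.inv_hom_id_app, Category.comp_id]
  constructor
  · intro _
    rw [h']
    infer_instance
  · intro _
    rw [h]
    infer_instance

/-- the forgetful functor from modules to abelian groups detects epimorphisms. -/
theorem epi_forget₂_map_iff {M N : ModuleCat.{u} A} (g : M ⟶ N) :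
    Epi ((forget₂ (ModuleCat.{u} A) AddCommGrpCat.{u}).map g) ↔ Epi g := by
  rw [AddCommGrpCat.epi_iff_surjective, ModuleCat.epi_iff_surjective]
  rfl

/-- the forgetful functor from modules to abelian groups detects monomorphisms. -/
theorem mono_forget₂_map_iff {M N : ModuleCat.{u} A} (g : M ⟶ N) :
    Mono ((forget₂ (ModuleCat.{u} A) AddCommGrpCat.{u}).map g) ↔ Mono g := by
  rw [AddCommGrpCat.mono_iff_injective, ModuleCat.mono_iff_injective]
  rfl

theorem preservesEpi_comp_forget₂_iff (G : ModuleCat.{u} A ⥤ ModuleCat.{u} A) :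
    (G ⋙ forget₂ (ModuleCat.{u} A) AddCommGrpCat.{u}).PreservesEpimorphisms ↔
      G.PreservesEpimorphisms := by
  constructor
  · intro h
    refine ⟨fun {M N} g hg => ?_⟩
    have := h.preserves g
    exact (epi_forget₂_map_iff (G.map g)).mp this
  · intro h
    refine ⟨fun {M N} g hg => ?_⟩
    have := h.preserves g
    exact (epi_forget₂_map_iff (G.map g)).mpr this

theorem preservesMono_comp_forget₂_iff (G : ModuleCat.{u} A ⥤ ModuleCat.{u} A) :
    (G ⋙ forget₂ (ModuleCat.{u} A) AddCommGrpCat.{u}).PreservesMonomorphisms ↔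
      G.PreservesMonomorphisms := by
  constructor
  · intro h
    refine ⟨fun {M N} g hg => ?_⟩
    have := h.preserves g
    exact (mono_forget₂_map_iff (G.map g)).mp this
  · intro h
    refine ⟨fun {M N} g hg => ?_⟩
    have := h.preserves g
    exact (mono_forget₂_map_iff (G.map g)).mpr this

end Transfer

section Rows

variable (A : Type u) [CommRing A] {X : Scheme.{u}}
  [X.Over (Spec (CommRingCat.of A))] (F : X.Modules) {L : CochainComplex (ModuleCat.{u} A) ℤ}

theorem Computes.finite_flat (hL : Computes A F L) (i : ℤ) :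
    Module.Finite A (L.X i) ∧ Module.Flat A (L.X i) :=
  ⟨(hL.1 i).1, have := (hL.1 i).2; inferInstance⟩

theorem rel_next (p : ℤ) : (ComplexShape.up ℤ).Rel p ((ComplexShape.up ℤ).next p) := by
  simp

/-- transport of surjectivity of the value on one map. -/
theorem surjective_map_iff (hL : Computes A F L) (p : ℕ) {M N : ModuleCat.{u} A} (g : M ⟶ N) :
    Function.Surjective ((CohIII.tensorAFunctor A F ⋙ CohIII.HAb X p).map g).hom ↔
      Function.Surjective ((CohIII.TFun L (p : ℤ)).map g).hom := by
  obtain ⟨e⟩ := hL.2.2.2 p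
  have h1 : Function.Surjective ((CohIII.tensorAFunctor A F ⋙ CohIII.HAb X p).map g).hom ↔
      Epi ((CohIII.tensorAFunctor A F ⋙ CohIII.HAb X p).map g) :=
    (AddCommGrpCat.epi_iff_surjective _).symm
  rw [h1, epi_map_iff_of_iso e, Functor.comp_map, epi_forget₂_map_iff,
    ModuleCat.epi_iff_surjective]

theorem preservesEpi_iff (hL : Computes A F L) (p : ℕ) :
    (CohIII.tensorAFunctor A F ⋙ CohIII.HAb X p).PreservesEpimorphisms ↔
      (CohIII.TFun L (p : ℤ)).PreservesEpimorphisms := by
  obtain ⟨e⟩ := hL.2.2.2 p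
  rw [Functor.PreservesEpimorphisms.iso_iff e, preservesEpi_comp_forget₂_iff]

/-- the local criterion for the exchange property, from a computing complex. -/
theorem preservesEpi_iff_surjective_residue_of_computes [IsNoetherianRing A] [IsLocalRing A] (hL : Computes A F L)
    (p : ℕ) :
    (CohIII.tensorAFunctor A F ⋙ CohIII.HAb X p).PreservesEpimorphisms ↔
      Function.Surjective ((CohIII.tensorAFunctor A F ⋙ CohIII.HAb X p).map
        (ModuleCat.ofHom (Algebra.linearMap A (IsLocalRing.ResidueField A)))).hom := by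
  rw [preservesEpi_iff A F hL, surjective_map_iff A F hL,
    preservesEpi_iff_surjective_residue L (p : ℤ) (hL.finite_flat A F) (rel_next _)]

/-- corepresentability of `T_p`, for a complex of any shape. -/
theorem preservesMono_iff_corep [IsNoetherianRing A] {ι : Type} {c : ComplexShape ι}
    (P : HomologicalComplex (ModuleCat.{u} A) c)
    (hP : ∀ i, Module.Finite A (P.X i) ∧ Module.Flat A (P.X i)) (p : ι) :
    ((CohIII.TFun P p).PreservesMonomorphisms ↔
      ∃ Q : ModuleCat.{u} A, Nonempty (CohIII.TFun P p ≅ (linearCoyoneda A (ModuleCat.{u} A)).obj (op Q))) ∧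
    ∀ Q : ModuleCat.{u} A, Nonempty (CohIII.TFun P p ≅ (linearCoyoneda A (ModuleCat.{u} A)).obj (op Q)) →
      Module.Finite A Q := by
  have hfinW : Module.Finite A (W P p) := by
    have := (hP p).1
    infer_instance
  have hprojX : ∀ i, Module.Projective A (P.X i) := by
    intro i
    have := (hP i).1
    have := (hP i).2
    have : Module.FinitePresentation A (P.X i) := Module.finitePresentation_of_finite A _
    exact Module.Flat.projective_of_finitePresentation
  have hfinX : ∀ i, Module.Finite A (P.X i) := fun i => (hP i).1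
  have key : (CohIII.TFun P p).PreservesMonomorphisms →
      ∃ (_ : Module.Projective A (W P p)),
        Nonempty (CohIII.TFun P p ≅ (linearCoyoneda A (ModuleCat.{u} A)).obj
          (op (Groth.Agent.H12.Corep.Qobj P p))) := by
    intro h
    have hflat : Module.Flat A (W P p) := (preservesMono_iff_flat_W P p (hP _).2).mp h
    have hfp : Module.FinitePresentation A (W P p) := Module.finitePresentation_of_finite A _
    have hproj : Module.Projective A (W P p) := Module.Flat.projective_of_finitePresentation
    have := hprojX (c.next p)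
    have := hfinX (c.next p)
    exact ⟨hproj, ⟨Groth.Agent.H12.Corep.corepIso P p⟩⟩
  have back : ∀ Q : ModuleCat.{u} A,
      Nonempty (CohIII.TFun P p ≅ (linearCoyoneda A (ModuleCat.{u} A)).obj (op Q)) →
      (CohIII.TFun P p).PreservesMonomorphisms := by
    rintro Q ⟨e⟩
    have := Groth.Agent.H12.Corep.preservesMono_linearCoyoneda Q
    exact Functor.PreservesMonomorphisms.of_iso e.symm
  refine ⟨⟨fun h => ?_, fun ⟨Q, hQ⟩ => back Q hQ⟩, ?_⟩
  · obtain ⟨_, hiso⟩ := key h
    exact ⟨_, hiso⟩
  · rintro Q ⟨e⟩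
    obtain ⟨hproj, ⟨e₀⟩⟩ := key (back Q ⟨e⟩)
    obtain ⟨i⟩ := Groth.Agent.H12.Corep.nonempty_iso_of_linearCoyoneda_iso Q
      (Groth.Agent.H12.Corep.Qobj P p) (e.symm ≪≫ e₀)
    have hfinQ : Module.Finite A (Groth.Agent.H12.Corep.Qobj P p) := by
      show Module.Finite A (Groth.Agent.H12.Corep.Qmod (lW P p))
      infer_instance
    exact Module.Finite.equiv i.toLinearEquiv.symm

/-- the exchange property in degree `p` against corepresentability in degree `p + 1`, from a
computing complex. -/
theorem preservesEpi_iff_next_corep_of_computes [IsNoetherianRing A] (hL : Computes A F L)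
    (p : ℕ) :
    (CohIII.tensorAFunctor A F ⋙ CohIII.HAb X p).PreservesEpimorphisms ↔
      ∃ Q : ModuleCat.{u} A, Nonempty (CohIII.tensorAFunctor A F ⋙ CohIII.HAb X (p + 1) ≅
        (linearCoyoneda A (ModuleCat.{u} A)).obj (op Q) ⋙
          forget₂ (ModuleCat.{u} A) AddCommGrpCat.{u}) := by
  obtain ⟨e⟩ := hL.2.2.2 (p + 1)
  have hrel : (ComplexShape.up ℤ).Rel (p : ℤ) ((p + 1 : ℕ) : ℤ) := by
    simp
  rw [preservesEpi_iff A F hL,
    preservesEpi_iff_preservesMono L (fun i => (hL.finite_flat A F i).2) _ _ hrel]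
  constructor
  · intro h
    obtain ⟨Q, ⟨i⟩⟩ := (preservesMono_iff_corep A L (hL.finite_flat A F) _).1.mp h
    exact ⟨Q, ⟨e ≪≫ Functor.isoWhiskerRight i _⟩⟩
  · rintro ⟨Q, ⟨i⟩⟩
    have h1 : ((linearCoyoneda A (ModuleCat.{u} A)).obj (op Q) ⋙
        forget₂ (ModuleCat.{u} A) AddCommGrpCat.{u}).PreservesMonomorphisms :=
      (preservesMono_comp_forget₂_iff _).mpr (Groth.Agent.H12.Corep.preservesMono_linearCoyoneda Q)
    have h2 : (CohIII.TFun L ((p + 1 : ℕ) : ℤ) ⋙
        forget₂ (ModuleCat.{u} A) AddCommGrpCat.{u}).PreservesMonomorphisms :=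
      Functor.PreservesMonomorphisms.of_iso (i.symm ≪≫ e)
    exact (preservesMono_comp_forget₂_iff _).mp h2

end Rows

end Groth.Agent.H12.BC
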