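import Mathlib
import Groth.Prelude.Def_ega3
import Groth.Prelude.Def_FlatMod2
import Groth.Agent.H12.TCx7
import Groth.Agent.H12.Corep

/-!
# The core statement of cohomology and base change, as a hypothesis (helper12)

`MumfordHyp` is the statement that for `X` proper over a Noetherian ring `A` and `F` coherent and
flat over `A`, the functors `M ↦ H^p(X, f^* M~ ⊗ F)` are computed, naturally in `M`, by a bounded
above complex of finite free modules.  The exchange rows are deduced from it here.
-/

set_option autoImplicit false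
universe u
noncomputable section
namespace Groth.Agent.H12.BC
open CategoryTheory CategoryTheory.Limits AlgebraicGeometry Opposite

/-- the complex `L` computes the cohomology of `F ⊗_A M`, naturally in `M`. -/
def Computes (A : Type u) [CommRing A] {X : Scheme.{u}} [X.Over (Spec (CommRingCat.of A))]
    (F : X.Modules) (L : CochainComplex (ModuleCat.{u} A) ℤ) : Prop :=
  (∀ i, Module.Finite A (L.X i) ∧ Module.Free A (L.X i)) ∧
    (∃ b : ℤ, ∀ i, b < i → IsZero (L.X i)) ∧
    (∀ (M : ModuleCat.{u} A) (i : ℤ), i < 0 → IsZero (CohIII.T L i M)) ∧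
    ∀ p : ℕ, Nonempty (CohIII.tensorAFunctor A F ⋙ CohIII.HAb X p ≅
      CohIII.TFun L (p : ℤ) ⋙ forget₂ (ModuleCat.{u} A) AddCommGrpCat.{u})

/-- the core statement. -/
def MumfordHyp : Prop :=
  ∀ (A : Type u) [CommRing A] [IsNoetherianRing A] (X : Scheme.{u})
    [X.Over (Spec (CommRingCat.of A))] [IsProper (X ↘ Spec (CommRingCat.of A))]
    (F : X.Modules), Coh.IsCoh F → FlatMod.IsFlatOver (X ↘ Spec (CommRingCat.of A)) F →
    ∃ L : CochainComplex (ModuleCat.{u} A) ℤ, Computes A F L

end Groth.Agent.H12.BC
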